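/-
Groups all of whose 2-elements centralise a Sylow 2-subgroup have abelian Sylow 2-subgroups.

Main result: `Cfsg.Agent.TwoCentralElts.isMulCommutative`
-/
import Cfsg.Agent.EqLemmas
import Cfsg.Agent.S4354
import Cfsg.Agent.Lib.Transfer.Focal

set_option autoImplicit false
set_option linter.style.haveILetI false
set_option linter.unusedSectionVars false

namespace Cfsg.Agent.TwoCentralElts

open Subgroup

universe u

variable {G : Type u} [Group G] [Finite G]

/-- Every 2-element has a class of odd size. -/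
def Hyp (G : Type u) [Group G] : Prop :=
  ∀ x : G, (∃ k : ℕ, orderOf x = 2 ^ k) → ¬ 2 ∣ (Subgroup.centralizer ({x} : Set G)).index

/-- The centre of a subgroup, as a subgroup of the group. -/
def Cen (P : Subgroup G) : Subgroup G := P ⊓ Subgroup.centralizer (P : Set G)

omit [Finite G] in
theorem conj_mem_cen {P : Subgroup G} {n x : G} (hn : n ∈ Subgroup.normalizer (P : Set G))
    (hx : x ∈ Cen P) : n * x * n⁻¹ ∈ Cen P := by
  refine ⟨(mem_normalizer_iff.1 hn x).1 hx.1, mem_centralizer_iff.2 fun y hy => ?_⟩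
  have hy' : n⁻¹ * y * n ∈ P := by
    refine (mem_normalizer_iff.1 hn _).2 ?_
    rw [show n * (n⁻¹ * y * n) * n⁻¹ = y by group]
    exact hy
  have h := mem_centralizer_iff.1 hx.2 _ hy'
  calc y * (n * x * n⁻¹) = n * ((n⁻¹ * y * n) * x) * n⁻¹ := by group
    _ = n * (x * (n⁻¹ * y * n)) * n⁻¹ := by rw [h]
    _ = n * x * n⁻¹ * y := by group

theorem isPGroup_zpowers {x : G} {k : ℕ} (h : orderOf x = 2 ^ k) : IsPGroup 2 (zpowers x) :=
  IsPGroup.of_card (n := k) (by rw [Nat.card_zpowers, h])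

theorem exists_sylow_mem {x : G} (h : ∃ k : ℕ, orderOf x = 2 ^ k) : ∃ P : Sylow 2 G, x ∈ (P : Subgroup G) := by
  obtain ⟨k, hk⟩ := h
  obtain ⟨P, hP⟩ := (isPGroup_zpowers hk).exists_le_sylow
  exact ⟨P, hP (mem_zpowers x)⟩

theorem conj_into_cen (h : Hyp G) (P : Sylow 2 G) {x : G} (hx : x ∈ (P : Subgroup G)) :
    ∃ g : G, g * x * g⁻¹ ∈ Cen (P : Subgroup G) := by
  haveI : Fact (Nat.Prime 2) := ⟨Nat.prime_two⟩
  obtain ⟨g, hg, hgc⟩ := S4354.conj_central P x hx (h x (S4354.p_order P x hx))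
  exact ⟨g, hg, mem_centralizer_iff.2 fun y hy => hgc y hy⟩

omit [Finite G] in
theorem inv_conj_mul (g x : G) (n : ℕ) : (g * x * g⁻¹) ^ n = g * x ^ n * g⁻¹ := conj_pow

/-- An element of order `2^e` squared down to an involution, with `2^e` an exponent of every Sylow subgroup:
such involutions are central in every Sylow 2-subgroup containing them. -/
theorem top_central (h : Hyp G) {e : ℕ} (he : 1 ≤ e)
    (hexp : ∀ x : G, (∃ k : ℕ, orderOf x = 2 ^ k) → x ^ 2 ^ e = 1)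
    {x₀ : G} (hx₀ : ∃ k : ℕ, orderOf x₀ = 2 ^ k) (P : Sylow 2 G) {g : G}
    (hu : g * x₀ ^ 2 ^ (e - 1) * g⁻¹ ∈ (P : Subgroup G)) :
    g * x₀ ^ 2 ^ (e - 1) * g⁻¹ ∈ Cen (P : Subgroup G) := by
  classical
  haveI : Fact (Nat.Prime 2) := ⟨Nat.prime_two⟩
  by_contra hbad
  let T := {d : Sylow 2 G × G // d.2 * x₀ ^ 2 ^ (e - 1) * d.2⁻¹ ∈ (d.1 : Subgroup G) ∧
    d.2 * x₀ ^ 2 ^ (e - 1) * d.2⁻¹ ∉ Cen (d.1 : Subgroup G)}
  haveI : Nonempty T := ⟨⟨(P, g), hu, hbad⟩⟩
  obtain ⟨⟨⟨P₁, g₁⟩, hu₁, hbad₁⟩, hmax⟩ := Finite.exists_max (fun d : T =>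
    Nat.card ↥((d.1.1 : Subgroup G) ⊓ Subgroup.centralizer ({d.1.2 * x₀ ^ 2 ^ (e - 1) * d.1.2⁻¹} : Set G)))
  simp only at hu₁ hbad₁ hmax
  clear hbad hu
  set u := g₁ * x₀ ^ 2 ^ (e - 1) * g₁⁻¹ with hudef
  set y₁ := g₁ * x₀ * g₁⁻¹ with hy₁
  have hy₁u : y₁ ^ 2 ^ (e - 1) = u := inv_conj_mul _ _ _
  have hy₁k : ∃ k : ℕ, orderOf y₁ = 2 ^ k := by
    obtain ⟨k, hk⟩ := hx₀
    exact ⟨k, by rw [← hk, hy₁, ← MulAut.conj_apply]; exact MulEquiv.orderOf_eq (MulAut.conj g₁) x₀⟩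
  set C := Subgroup.centralizer ({u} : Set G) with hC
  set D := (P₁ : Subgroup G) ⊓ C with hD
  have hDp : IsPGroup 2 D := P₁.2.to_le inf_le_left
  -- a Sylow subgroup centralising `y₁`, moved over `D` inside `C`
  obtain ⟨T₁, hT₁⟩ := S4354.sylow_le_of_not_dvd _ (h y₁ hy₁k)
  have hcy : Subgroup.centralizer ({y₁} : Set G) ≤ C := by
    intro c hc
    rw [hC, mem_centralizer_singleton_iff, ← hy₁u]
    exact (Commute.pow_right (show Commute c y₁ from mem_centralizer_singleton_iff.1 hc) _).eq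
  have hT₁C : (T₁ : Subgroup G) ≤ C := hT₁.trans hcy
  have hodd : ¬ 2 ∣ (T₁ : Subgroup G).relIndex C := fun hd =>
    T₁.not_dvd_index (hd.trans (relIndex_dvd_index_of_le hT₁C))
  obtain ⟨c, hcC, hc⟩ := Transfer.exists_conj_le_of_not_dvd_relIndex (H := C) hT₁C T₁.2 hodd
    (inf_le_right : D ≤ C) hDp
  set y₂ := c⁻¹ * y₁ * c with hy₂
  have hy₂D : ∀ d ∈ D, d * y₂ = y₂ * d := by
    intro d hd
    have h1 : c * d * c⁻¹ * y₁ = y₁ * (c * d * c⁻¹) :=
      mem_centralizer_singleton_iff.1 (hT₁ (hc ⟨d, hd, rfl⟩))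
    calc d * y₂ = c⁻¹ * (c * d * c⁻¹ * y₁) * c := by rw [hy₂]; group
      _ = c⁻¹ * (y₁ * (c * d * c⁻¹)) * c := by rw [h1]
      _ = y₂ * d := by rw [hy₂]; group
  have hy₂u : y₂ ^ 2 ^ (e - 1) = u := by
    have h1 := inv_conj_mul c⁻¹ y₁ (2 ^ (e - 1))
    rw [inv_inv] at h1
    rw [hy₂, h1, hy₁u]
    have h2 : c * u = u * c := mem_centralizer_singleton_iff.1 hcC
    rw [mul_assoc, ← h2, inv_mul_cancel_left]
  have hy₂k : ∃ k : ℕ, orderOf y₂ = 2 ^ k := by
    obtain ⟨k, hk⟩ := hy₁k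
    refine ⟨k, ?_⟩
    rw [← hk, hy₂]
    have := MulEquiv.orderOf_eq (MulAut.conj c⁻¹) y₁
    rwa [MulAut.conj_apply, inv_inv] at this
  -- `D` is proper and grows in `P₁`
  have huD : u ∈ D := ⟨hu₁, mem_centralizer_singleton_iff.2 rfl⟩
  have hDlt : D.subgroupOf (P₁ : Subgroup G) ≠ ⊤ := by
    intro ht
    refine hbad₁ ⟨hu₁, mem_centralizer_iff.2 fun p hp => ?_⟩
    exact mem_centralizer_singleton_iff.1 ((subgroupOf_eq_top.1 ht) hp).2
  haveI : Group.IsNilpotent ↥(P₁ : Subgroup G) := P₁.2.isNilpotent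
  obtain ⟨s₀, hs₀n, hs₀⟩ := SetLike.exists_of_lt
    (Group.normalizerCondition_of_isNilpotent (D.subgroupOf (P₁ : Subgroup G)) (lt_top_iff_ne_top.2 hDlt))
  have hsn : (s₀ : G) ∈ Subgroup.normalizer (D : Set G) := by
    rw [mem_normalizer_iff]
    intro d
    constructor
    · intro hd
      exact (mem_normalizer_iff.1 hs₀n ⟨d, hd.1⟩).1 hd
    · intro hd
      have hdP : d ∈ (P₁ : Subgroup G) := by
        have := mul_mem (mul_mem (inv_mem s₀.2) hd.1) s₀.2
        simpa [mul_assoc] using this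
      exact (mem_normalizer_iff.1 hs₀n ⟨d, hdP⟩).2 hd
  -- the last power of `s₀` outside `D`
  have hex : ∃ j, (s₀ : G) ^ 2 ^ j ∈ D := by
    obtain ⟨j, hj⟩ := P₁.2 s₀
    refine ⟨j, ?_⟩
    rw [show (s₀ : G) ^ 2 ^ j = 1 from congrArg Subtype.val hj]
    exact one_mem _
  obtain ⟨j, hj⟩ : ∃ j, Nat.find hex = j + 1 := ⟨Nat.find hex - 1, by
    rcases Nat.eq_zero_or_pos (Nat.find hex) with h0 | h0
    · exact absurd (mem_subgroupOf.2 (by simpa [h0] using Nat.find_spec hex)) hs₀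
    · omega⟩
  set s := (s₀ : G) ^ 2 ^ j with hs
  have hs2 : s * s ∈ D := by
    have := Nat.find_spec hex
    rwa [hj, pow_succ, pow_mul, pow_two] at this
  have hsD : s ∉ D := Nat.find_min hex (by omega)
  have hsP : s ∈ (P₁ : Subgroup G) := pow_mem s₀.2 _
  have hsN : s ∈ Subgroup.normalizer (D : Set G) := pow_mem hsn _
  have hsu : s * u ≠ u * s := fun heq => hsD ⟨hsP, mem_centralizer_singleton_iff.2 heq⟩
  -- a Sylow subgroup of the normaliser of `D` over `D⟨s⟩`, and a conjugate of `y₂` in it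
  set L := Subgroup.normalizer (D : Set G) with hL
  set W := Subgroup.centralizer (D : Set G) with hW
  haveI : (W.subgroupOf L).Normal := by
    refine ⟨fun w hw l => ?_⟩
    rw [mem_subgroupOf, mem_centralizer_iff] at hw ⊢
    intro d hd
    have hd' : (l : G)⁻¹ * d * l ∈ D := by
      refine (mem_normalizer_iff.1 l.2 _).2 ?_
      rw [show (l : G) * ((l : G)⁻¹ * d * l) * (l : G)⁻¹ = d by group]
      exact hd
    have h1 := hw _ hd'
    simp only [Subgroup.coe_mul, Subgroup.coe_inv]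
    calc d * ((l : G) * w * (l : G)⁻¹) = (l : G) * (((l : G)⁻¹ * d * l) * w) * (l : G)⁻¹ := by group
      _ = (l : G) * ((w : G) * ((l : G)⁻¹ * d * l)) * (l : G)⁻¹ := by rw [h1]
      _ = (l : G) * w * (l : G)⁻¹ * d := by group
  obtain ⟨R, hR⟩ := ((P₁.2.to_le (inf_le_left : (P₁ : Subgroup G) ⊓ L ≤ _)).comap_subtype
    (K := L)).exists_le_sylow
  have hy₂W : y₂ ∈ W := mem_centralizer_iff.2 hy₂D
  have hy₂L : y₂ ∈ L := centralizer_le_normalizer _ hy₂W
  have hRW : ¬ 2 ∣ ((R : Subgroup L) ⊓ W.subgroupOf L).relIndex (W.subgroupOf L) := by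
    rw [inf_relIndex_right]
    exact fun hd => R.not_dvd_index (hd.trans (S4354.relIndex_dvd_index _ _))
  have hzL : IsPGroup 2 (zpowers (⟨y₂, hy₂L⟩ : L)) := by
    obtain ⟨k, hk⟩ := hy₂k
    exact isPGroup_zpowers (k := k) (by rw [← hk, ← Subgroup.orderOf_coe])
  obtain ⟨w, hwW, hw⟩ := Transfer.exists_conj_le_of_not_dvd_relIndex (H := W.subgroupOf L)
    (inf_le_right : (R : Subgroup L) ⊓ W.subgroupOf L ≤ _) (R.2.to_le inf_le_left) hRW
    (zpowers_le.2 (show (⟨y₂, hy₂L⟩ : L) ∈ W.subgroupOf L from hy₂W)) hzL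
  set y := (w : G) * y₂ * (w : G)⁻¹ with hy
  have hyR : w * ⟨y₂, hy₂L⟩ * w⁻¹ ∈ (R : Subgroup L) := (hw ⟨_, mem_zpowers _, rfl⟩).1
  have hwu : (w : G) * u * (w : G)⁻¹ = u := by
    have hwu' : u * (w : G) = (w : G) * u := mem_centralizer_iff.1 hwW u huD
    rw [← hwu', mul_inv_cancel_right]
  have hyu : y ^ 2 ^ (e - 1) = u := by rw [hy, inv_conj_mul, hy₂u, hwu]
  obtain ⟨P₂, hP₂⟩ := (R.2.map L.subtype).exists_le_sylow
  have hsP₂ : s ∈ (P₂ : Subgroup G) :=
    hP₂ ⟨⟨s, hsN⟩, hR (show (⟨s, hsN⟩ : L) ∈ _ from ⟨hsP, hsN⟩), rfl⟩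
  have hDP₂ : D ≤ (P₂ : Subgroup G) := fun d hd =>
    hP₂ ⟨⟨d, le_normalizer hd⟩, hR (show (⟨d, le_normalizer hd⟩ : L) ∈ _ from ⟨hd.1, le_normalizer hd⟩), rfl⟩
  have hyP₂ : y ∈ (P₂ : Subgroup G) := hP₂ ⟨_, hyR, rfl⟩
  have hbad₂ : u ∉ Cen (P₂ : Subgroup G) := fun hc => hsu (mem_centralizer_iff.1 hc.2 s hsP₂)
  have hle := hmax ⟨(P₂, g₁), hDP₂ huD, hbad₂⟩
  have heq : D = (P₂ : Subgroup G) ⊓ C :=
    eq_of_le_of_card_ge (le_inf hDP₂ inf_le_right) hle
  have hyD : y ∈ D := by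
    rw [heq]
    refine ⟨hyP₂, mem_centralizer_singleton_iff.2 ?_⟩
    rw [← hyu]
    exact ((Commute.refl y).pow_right _).eq
  have hyc : ∀ d ∈ D, Commute d y := by
    intro d hd
    have h1 : (w : G) * y₂ * (w : G)⁻¹ * d = d * ((w : G) * y₂ * (w : G)⁻¹) := by
      have hdw : d * (w : G) = (w : G) * d := mem_centralizer_iff.1 hwW d hd
      have hdw' : (w : G)⁻¹ * d = d * (w : G)⁻¹ := (Commute.inv_right (show Commute d (w : G) from hdw)).eq.symm
      calc (w : G) * y₂ * (w : G)⁻¹ * d = (w : G) * y₂ * ((w : G)⁻¹ * d) := by group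
        _ = (w : G) * (y₂ * d) * (w : G)⁻¹ := by rw [hdw']; group
        _ = (w : G) * (d * y₂) * (w : G)⁻¹ := by rw [hy₂D d hd]
        _ = ((w : G) * d) * y₂ * (w : G)⁻¹ := by group
        _ = d * (w : G) * y₂ * (w : G)⁻¹ := by rw [hdw]
        _ = d * ((w : G) * y₂ * (w : G)⁻¹) := by group
    exact h1.symm
  -- the order of `s y`
  set z := s⁻¹ * y * s with hz
  have hzD : z ∈ D := by
    have := (mem_normalizer_iff.1 (inv_mem hsN) y).1 hyD
    simpa [hz] using this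
  have hsq : (s * y) * (s * y) = (s * s) * (z * y) := by rw [hz]; group
  have hc1 : Commute (s * s) y := hyc _ hs2
  have hc2 : Commute (s * s) z := by
    have h1 : Commute (s * (s * s) * s⁻¹) y := by
      have : s * (s * s) * s⁻¹ = s * s := by group
      rw [this]; exact hc1
    show s * s * z = z * (s * s)
    rw [hz]
    calc s * s * (s⁻¹ * y * s) = s⁻¹ * ((s * s) * y) * s := by group
      _ = s⁻¹ * (y * (s * s)) * s := by rw [hc1.eq]
      _ = s⁻¹ * y * s * (s * s) := by group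
  have hc3 : Commute z y := hyc _ hzD
  have hsy : (s * y) ∈ (P₂ : Subgroup G) := mul_mem hsP₂ hyP₂
  have he' : 2 ^ e = 2 * 2 ^ (e - 1) := by
    rw [← pow_succ', Nat.sub_add_cancel he]
  have hall : ∀ t : G, t ∈ (P₂ : Subgroup G) → (t * t) ^ 2 ^ (e - 1) = 1 := fun t ht => by
    rw [← pow_two, ← pow_mul, ← he']
    exact hexp t (S4354.p_order P₂ t ht)
  have h1 := hall _ hsy
  rw [hsq, (hc2.mul_right hc1).mul_pow, hc3.mul_pow, hall s hsP₂, one_mul, hyu] at h1
  have hzu : z ^ 2 ^ (e - 1) = s⁻¹ * u * s := by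
    have := inv_conj_mul s⁻¹ y (2 ^ (e - 1))
    rw [inv_inv] at this
    rw [hz, this, hyu]
  rw [hzu] at h1
  have hu2 : u * u = 1 := by
    rw [← hy₁u, ← pow_two, ← pow_mul, mul_comm, ← he']
    exact hexp y₁ hy₁k
  apply hsu
  have h2 : s⁻¹ * u * s = u := by
    calc s⁻¹ * u * s = (s⁻¹ * u * s * u) * u⁻¹ := by group
      _ = u⁻¹ := by rw [h1, one_mul]
      _ = u := inv_eq_of_mul_eq_one_right hu2
  calc s * u = s * (s⁻¹ * u * s) := by rw [h2]
    _ = u * s := by group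

/-- **Abelian Sylow 2-subgroups.** -/
theorem isMulCommutative {G : Type u} [Group G] [Finite G] (h : Hyp G) (P : Sylow 2 G) :
    IsMulCommutative (P : Subgroup G) := by
  classical
  induction hn : Nat.card G using Nat.strong_induction_on generalizing G with
  | _ n ih =>
  subst hn
  haveI : Fact (Nat.Prime 2) := ⟨Nat.prime_two⟩
  by_cases hP1 : (P : Subgroup G) = ⊥
  · refine ⟨⟨fun a b => Subtype.ext ?_⟩⟩
    have ha := (eq_bot_iff_forall _).1 hP1 a a.2
    have hb := (eq_bot_iff_forall _).1 hP1 b b.2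
    show (a : G) * b = b * a
    rw [ha, hb]
  -- the exponent
  obtain ⟨⟨x₀, hx₀⟩, hx₀max⟩ := Finite.exists_max (fun x : ↥(Cen (P : Subgroup G)) => orderOf (x : G))
  obtain ⟨e, he⟩ := S4354.p_order P x₀ hx₀.1
  have hdiv : ∀ x ∈ Cen (P : Subgroup G), x ^ 2 ^ e = 1 := fun x hx => by
    obtain ⟨k, hk⟩ := S4354.p_order P x hx.1
    have := hx₀max ⟨x, hx⟩
    simp only [hk, he] at this
    refine orderOf_dvd_iff_pow_eq_one.1 ?_
    rw [hk]
    exact Nat.pow_dvd_pow 2 ((Nat.pow_le_pow_iff_right (by norm_num)).1 this)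
  have hexp : ∀ x : G, (∃ k : ℕ, orderOf x = 2 ^ k) → x ^ 2 ^ e = 1 := by
    intro x hx
    obtain ⟨Q, hQ⟩ := exists_sylow_mem hx
    obtain ⟨a, ha⟩ := MulAction.exists_smul_eq G Q P
    have haP : a * x * a⁻¹ ∈ (P : Subgroup G) := by
      rw [← ha, Sylow.coe_subgroup_smul]
      exact ⟨x, hQ, rfl⟩
    obtain ⟨b, hb⟩ := conj_into_cen h P haP
    have h1 := hdiv _ hb
    rw [show b * (a * x * a⁻¹) * b⁻¹ = (b * a) * x * (b * a)⁻¹ by group, inv_conj_mul,
      conj_eq_one_iff] at h1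
    exact h1
  have he1 : 1 ≤ e := by
    rcases Nat.eq_zero_or_pos e with rfl | h0
    · refine absurd ((eq_bot_iff_forall _).2 fun x hx => ?_) hP1
      have := hexp x (S4354.p_order P x hx)
      simpa using this
    · exact h0
  set z := x₀ ^ 2 ^ (e - 1) with hz
  have hzZ : z ∈ Cen (P : Subgroup G) := pow_mem hx₀ _
  have hz1 : z ≠ 1 := by
    intro h1
    have h2 := orderOf_dvd_of_pow_eq_one h1
    rw [he, Nat.pow_dvd_pow_iff_le_right (by norm_num)] at h2
    omega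
  have hzk : ∀ a : G, ∃ k : ℕ, orderOf (a * z * a⁻¹) = 2 ^ k := fun a => by
    obtain ⟨k, hk⟩ := S4354.p_order P z hzZ.1
    exact ⟨k, by rw [← hk, ← MulAut.conj_apply]; exact MulEquiv.orderOf_eq (MulAut.conj a) z⟩
  set C := Subgroup.centralizer ({z} : Set G) with hC
  have hPC : (P : Subgroup G) ≤ C := fun p hp =>
    mem_centralizer_singleton_iff.2 (mem_centralizer_iff.1 hzZ.2 p hp)
  -- fusion inside `C`
  have hfus : ∀ x ∈ (P : Subgroup G), ∃ m ∈ C, m * x * m⁻¹ ∈ Cen (P : Subgroup G) := by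
    intro x hx
    obtain ⟨g, hg⟩ := conj_into_cen h P hx
    set x' := g * x * g⁻¹ with hx'
    set K := Subgroup.centralizer ({x'} : Set G)
    have hPK : (P : Subgroup G) ≤ K := fun p hp =>
      mem_centralizer_singleton_iff.2 (mem_centralizer_iff.1 hg.2 p hp)
    have hzK : g * z * g⁻¹ ∈ K := by
      have h1 : x * z = z * x := mem_centralizer_iff.1 hzZ.2 x hx
      rw [mem_centralizer_singleton_iff, hx']
      calc g * z * g⁻¹ * (g * x * g⁻¹) = g * (z * x) * g⁻¹ := by group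
        _ = g * (x * z) * g⁻¹ := by rw [h1]
        _ = g * x * g⁻¹ * (g * z * g⁻¹) := by group
    obtain ⟨k, hk⟩ := hzk g
    obtain ⟨c, hcK, hc⟩ := Transfer.exists_conj_le_of_not_dvd_relIndex (H := K) hPK P.2
      (fun hd => P.not_dvd_index (hd.trans (relIndex_dvd_index_of_le hPK)))
      (zpowers_le.2 hzK) (isPGroup_zpowers hk)
    have hcP : (c * g) * z * (c * g)⁻¹ ∈ (P : Subgroup G) := by
      have := hc ⟨_, mem_zpowers _, rfl⟩
      simpa [mul_assoc] using this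
    have hcen := top_central h he1 hexp ⟨e, he⟩ P hcP
    obtain ⟨n, hn, hne⟩ := P.conj_eq_normalizer_conj_of_mem_centralizer z (c * g)⁻¹ hzZ.2
      (by rw [inv_inv]; exact hcen.2)
    rw [inv_inv] at hne
    refine ⟨n * (c * g), ?_, ?_⟩
    · rw [hC, mem_centralizer_singleton_iff]
      calc n * (c * g) * z = n * ((c * g) * z * (c * g)⁻¹) * (c * g) := by group
        _ = n * (n⁻¹ * z * n) * (c * g) := by rw [hne]
        _ = z * (n * (c * g)) := by group
    · have h1 : c * x' * c⁻¹ = x' := by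
        have := mem_centralizer_singleton_iff.1 hcK
        rw [this, mul_inv_cancel_right]
      have h2 : n * (c * g) * x * (n * (c * g))⁻¹ = n * x' * n⁻¹ := by
        rw [← h1, hx']; group
      rw [h2]
      exact conj_mem_cen hn hg
  -- the hypothesis passes to `C`
  let PC : Sylow 2 ↥C := P.subtype hPC
  have hHC : Hyp ↥C := by
    intro x hx hd
    obtain ⟨Q, hQ⟩ := exists_sylow_mem hx
    obtain ⟨a, ha⟩ := MulAction.exists_smul_eq ↥C Q PC
    have haP : ((a * x * a⁻¹ : C) : G) ∈ (P : Subgroup G) := by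
      have : a * x * a⁻¹ ∈ (PC : Subgroup C) := by
        rw [← ha, Sylow.coe_subgroup_smul]
        exact ⟨x, hQ, rfl⟩
      exact this
    obtain ⟨m, hm, hmc⟩ := hfus _ haP
    set w : C := ⟨m, hm⟩ * (a * x * a⁻¹) * ⟨m, hm⟩⁻¹
    have hle : (PC : Subgroup C) ≤ Subgroup.centralizer ({w} : Set C) := fun p hp =>
      mem_centralizer_singleton_iff.2 (Subtype.ext (mem_centralizer_iff.1 hmc.2 p hp))
    have hb : w = (⟨m, hm⟩ * a) * x * (⟨m, hm⟩ * a)⁻¹ := by simp [w, mul_assoc]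
    have hidx : (Subgroup.centralizer ({w} : Set C)).index = (Subgroup.centralizer ({x} : Set C)).index := by
      rw [hb, ← index_map_of_bijective (f := (MulAut.conj (⟨m, hm⟩ * a)).toMonoidHom)
        (MulAut.conj (⟨m, hm⟩ * a)).bijective (Subgroup.centralizer ({x} : Set C))]
      congr 1
      ext q
      rw [mem_map_equiv, mem_centralizer_singleton_iff, mem_centralizer_singleton_iff, MulAut.conj_symm_apply]
      constructor
      · intro hq
        have := congrArg (fun t => (⟨m, hm⟩ * a)⁻¹ * t * (⟨m, hm⟩ * a)) hq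
        simpa [mul_assoc] using this
      · intro hq
        have := congrArg (fun t => (⟨m, hm⟩ * a) * t * (⟨m, hm⟩ * a)⁻¹) hq
        simpa [mul_assoc] using this
    exact PC.not_dvd_index (hd.trans (hidx ▸ index_dvd_of_le hle))
  -- the quotient by `⟨z⟩`
  let zC : C := ⟨z, mem_centralizer_singleton_iff.2 rfl⟩
  haveI hNn : (zpowers zC).Normal := by
    refine ⟨fun a ha b => ?_⟩
    obtain ⟨i, rfl⟩ := mem_zpowers_iff.1 ha
    have hcomm : Commute b zC := Subtype.ext (mem_centralizer_singleton_iff.1 b.2)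
    rw [(hcomm.zpow_right i).eq, mul_inv_cancel_right]
    exact zpow_mem (mem_zpowers _) i
  have hlt : Nat.card (↥C ⧸ zpowers zC) < Nat.card G := by
    have h1 : Nat.card ↥C ≤ Nat.card G := card_le_card_group C
    have h2 := card_eq_card_quotient_mul_card_subgroup (zpowers zC)
    have h3 : 1 < Nat.card (zpowers zC) := by
      rw [Nat.card_zpowers]
      by_contra hle
      have := orderOf_pos zC
      exact hz1 (congrArg Subtype.val (orderOf_eq_one_iff.1 (by omega : orderOf zC = 1)))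
    have h4 : 0 < Nat.card (↥C ⧸ zpowers zC) := Nat.card_pos
    nlinarith
  have hHQ : Hyp (↥C ⧸ zpowers zC) := fun x hx => S4354.prop_quotient hHC (zpowers zC) x hx
  have hcomm : IsMulCommutative (PC : Subgroup C) := S4354.main hHC (zpowers zC)
    (fun Q => ⟨⟨fun a b => Subtype.ext (Subtype.ext (by
      obtain ⟨i, hi⟩ := mem_zpowers_iff.1 a.1.2
      obtain ⟨j, hj⟩ := mem_zpowers_iff.1 b.1.2
      show ((a : zpowers zC) : C) * (b : zpowers zC) = ((b : zpowers zC) : C) * (a : zpowers zC)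
      rw [← hi, ← hj, ← zpow_add, ← zpow_add, add_comm]))⟩⟩)
    (fun Q => ih _ hlt hHQ Q rfl) PC
  refine ⟨⟨fun a b => Subtype.ext ?_⟩⟩
  have := hcomm.1.1 ⟨⟨a, hPC a.2⟩, a.2⟩ ⟨⟨b, hPC b.2⟩, b.2⟩
  have h2 := congrArg Subtype.val this
  exact congrArg (fun t : C => (t : G)) h2

end Cfsg.Agent.TwoCentralElts
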